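import Mathlib
import Groth.Prelude.Def_W4c4lgringredgrpLG

universe u v w

open TensorProduct

namespace Groth.Agent.LGRingLib

variable {R : Type u} [CommRing R]

theorem exists_unit_value (hR : LGRing.IsLGRing R) {n : ℕ} (P : MvPolynomial (Fin n) R)
    (h : ∀ m : Ideal R, m.IsMaximal → ∃ s : Fin n → R, MvPolynomial.eval s P ∉ m) :
    ∃ s : Fin n → R, IsUnit (MvPolynomial.eval s P) := by
  obtain ⟨s, hs⟩ := hR n P fun m hm => by
    obtain ⟨s, hs⟩ := h m hm
    letI := Ideal.Quotient.field m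
    refine ⟨algebraMap R (R ⧸ m) ∘ s, ?_⟩
    rw [isUnit_iff_ne_zero, MvPolynomial.aeval_algebraMap_apply, MvPolynomial.aeval_eq_eval, Ne,
      Ideal.Quotient.algebraMap_eq, Ideal.Quotient.eq_zero_iff_mem]
    exact hs
  exact ⟨s, by rwa [MvPolynomial.aeval_eq_eval] at hs⟩

theorem exists_unit_value' (hR : LGRing.IsLGRing R) {σ : Type*} [Finite σ] (P : MvPolynomial σ R)
    (h : ∀ m : Ideal R, m.IsMaximal → ∃ s : σ → R, MvPolynomial.eval s P ∉ m) :
    ∃ s : σ → R, IsUnit (MvPolynomial.eval s P) := by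
  obtain ⟨n, ⟨e⟩⟩ := Finite.exists_equiv_fin σ
  obtain ⟨s, hs⟩ := exists_unit_value hR (MvPolynomial.rename e P) fun m hm => by
    obtain ⟨s, hs⟩ := h m hm
    refine ⟨s ∘ e.symm, ?_⟩
    rw [MvPolynomial.eval_rename, Function.comp_assoc, Equiv.symm_comp_self, Function.comp_id]
    exact hs
  exact ⟨s ∘ e, by rwa [MvPolynomial.eval_rename] at hs⟩

variable (M : Type v) (N : Type w) [AddCommGroup M] [Module R M] [AddCommGroup N] [Module R N]
  [Module.Finite R M] [Module.Projective R M] [Module.Finite R N] [Module.Projective R N]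

theorem exists_unimodular (hR : LGRing.IsLGRing R) [FaithfulSMul R M] :
    ∃ (m : M) (f : Module.Dual R M), f m = 1 := by
  classical
  obtain ⟨n, g, hg⟩ := Module.Finite.exists_fin (R := R) (M := M)
  let p : (Fin n → R) →ₗ[R] M := Fintype.linearCombination R g
  have hp : Function.Surjective p := by
    rw [← LinearMap.range_eq_top, Fintype.range_linearCombination, hg]
  obtain ⟨i, hi⟩ := Module.projective_lifting_property p LinearMap.id hp
  let φ : Fin n → Module.Dual R M := fun j => (LinearMap.proj j).comp i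
  have hdual : ∀ x, ∑ j, φ j x • g j = x := fun x => LinearMap.congr_fun hi x
  let P : MvPolynomial (Fin n ⊕ Fin n) R := ∑ a, ∑ b,
    MvPolynomial.C (φ b (g a)) * MvPolynomial.X (Sum.inl a) * MvPolynomial.X (Sum.inr b)
  obtain ⟨s, hs⟩ := exists_unit_value' hR P fun m hm => by
    by_contra hall
    push Not at hall
    have h1 : ∀ a b, φ b (g a) ∈ m := fun a b => by
      have := hall (Sum.elim (Pi.single a 1) (Pi.single b 1))
      simpa [P, Pi.single_apply] using this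
    have hle : (⊤ : Submodule R M) ≤ m • ⊤ := by
      rw [← hg, Submodule.span_le]
      rintro _ ⟨a, rfl⟩
      conv => arg 2; rw [← hdual (g a)]
      exact Submodule.sum_mem _ fun b _ => Submodule.smul_mem_smul (h1 a b) (Submodule.subset_span ⟨b, rfl⟩)
    obtain ⟨r, hr, hr0⟩ := Submodule.exists_sub_one_mem_and_smul_eq_zero_of_fg_of_le_smul m ⊤ Module.Finite.fg_top hle
    have : r = 0 := eq_of_smul_eq_smul (α := M) fun x => by rw [hr0 x Submodule.mem_top, zero_smul]
    subst this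
    exact hm.ne_top ((Ideal.eq_top_iff_one _).mpr (by simpa using neg_mem hr))
  refine ⟨∑ a, s (Sum.inl a) • g a, (↑hs.unit⁻¹ : R) • ∑ b, s (Sum.inr b) • φ b, ?_⟩
  rw [LinearMap.smul_apply, smul_eq_mul]
  convert hs.val_inv_mul
  simp only [P, map_sum, map_mul, MvPolynomial.eval_C, MvPolynomial.eval_X, LinearMap.sum_apply,
    LinearMap.smul_apply, map_smul, smul_eq_mul, Finset.mul_sum]
  exact Finset.sum_congr rfl fun a _ => Finset.sum_congr rfl fun b _ => by ring

section Det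

variable {n : ℕ} {ι κ : Type} [Fintype ι] [Fintype κ]
  (i : M →ₗ[R] (Fin n → R)) (p : (Fin n → R) →ₗ[R] M) (f : ι → (M →ₗ[R] N)) (g : κ → (N →ₗ[R] M))

/-- The determinant polynomial of `i ∘ (∑ t g) ∘ (∑ s f) ∘ p + (1 - i ∘ p)`. -/
noncomputable def detPoly : MvPolynomial (ι ⊕ κ) R :=
  Matrix.det (∑ a, ∑ b, ((MvPolynomial.X (Sum.inl a) * MvPolynomial.X (Sum.inr b) : MvPolynomial (ι ⊕ κ) R) •
      (LinearMap.toMatrix' (i ∘ₗ g b ∘ₗ f a ∘ₗ p)).map MvPolynomial.C)
    + (LinearMap.toMatrix' (LinearMap.id - i ∘ₗ p)).map MvPolynomial.C)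

omit [Module.Finite R M] [Module.Projective R M] [Module.Finite R N] [Module.Projective R N] in
lemma eval_detPoly (s : ι ⊕ κ → R) :
    MvPolynomial.eval s (detPoly M N i p f g) = LinearMap.det
      (i ∘ₗ (∑ b, s (Sum.inr b) • g b) ∘ₗ (∑ a, s (Sum.inl a) • f a) ∘ₗ p + (LinearMap.id - i ∘ₗ p)) := by
  rw [detPoly, RingHom.map_det, ← LinearMap.det_toMatrix']
  congr 1
  ext x y
  simp only [RingHom.mapMatrix_apply, Matrix.map_apply, Matrix.add_apply, Matrix.sum_apply, Matrix.smul_apply,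
    map_add, map_sum, smul_eq_mul, map_mul, MvPolynomial.eval_C, MvPolynomial.eval_X]
  simp only [LinearMap.toMatrix'_apply, LinearMap.add_apply, LinearMap.comp_apply, LinearMap.sum_apply,
    LinearMap.smul_apply, map_sum, map_smul, Pi.add_apply, Finset.sum_apply, Pi.smul_apply, smul_eq_mul,
    Finset.mul_sum]
  congr 1
  simp only [mul_assoc]

end Det

omit [Module.Finite R M] [Module.Projective R M] in
lemma bijective_of_isUnit_det {n : ℕ} (i : M →ₗ[R] (Fin n → R)) (p : (Fin n → R) →ₗ[R] M)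
    (hip : p ∘ₗ i = LinearMap.id) (h : M →ₗ[R] M)
    (hu : IsUnit (LinearMap.det (i ∘ₗ h ∘ₗ p + (LinearMap.id - i ∘ₗ p)))) : Function.Bijective h := by
  have hb : Function.Bijective ⇑(i ∘ₗ h ∘ₗ p + (LinearMap.id - i ∘ₗ p) : (Fin n → R) →ₗ[R] (Fin n → R)) :=
    (Module.End.isUnit_iff _).mp ((LinearMap.isUnit_iff_isUnit_det _).mpr hu)
  have hpi : ∀ x, p (i x) = x := LinearMap.congr_fun hip
  have hEi : ∀ x, (i ∘ₗ h ∘ₗ p + (LinearMap.id - i ∘ₗ p) : (Fin n → R) →ₗ[R] (Fin n → R)) (i x) = i (h x) := fun x => by simp [hpi]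
  refine ⟨fun x y hxy => ?_, fun y => ?_⟩
  · rw [← hpi x, hb.1 ((hEi x).trans ((congrArg i hxy).trans (hEi y).symm)), hpi]
  · obtain ⟨z, hz⟩ := hb.2 (i y)
    refine ⟨p z, ?_⟩
    simpa [hpi] using congrArg p hz

omit [Module.Finite R M] [Module.Projective R M] in
lemma det_notMem {n : ℕ} (i : M →ₗ[R] (Fin n → R)) (p : (Fin n → R) →ₗ[R] M) (h : M →ₗ[R] M)
    (m : Ideal R) [m.IsPrime] (hh : ∀ x, h x - x ∈ m • (⊤ : Submodule R M)) :
    LinearMap.det (i ∘ₗ h ∘ₗ p + (LinearMap.id - i ∘ₗ p)) ∉ m := by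
  classical
  intro hmem
  have h1 : Ideal.Quotient.mk m (LinearMap.det (i ∘ₗ h ∘ₗ p + (LinearMap.id - i ∘ₗ p))) = 1 := by
    rw [← LinearMap.det_toMatrix', RingHom.map_det]
    convert Matrix.det_one (R := R ⧸ m) (n := Fin n)
    ext x y
    rw [RingHom.mapMatrix_apply, Matrix.map_apply, LinearMap.toMatrix'_apply]
    set v : Fin n → R := Pi.single y 1
    have hv : i (h (p v) - p v) ∈ (m • ⊤ : Submodule R (Fin n → R)) :=
      (Submodule.map_smul'' m ⊤ i ▸ Submodule.mem_map_of_mem (hh (p v)) :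
        i (h (p v) - p v) ∈ m • Submodule.map i ⊤) |> Submodule.smul_mono le_rfl le_top
    have hvx : i (h (p v) - p v) x ∈ m := by
      refine Submodule.smul_induction_on (p := fun w => w x ∈ m) hv (fun r hr w _ => ?_) (fun a b ha hb => ?_)
      · simpa using m.mul_mem_right (w x) hr
      · simpa using m.add_mem ha hb
    have heq : (i ∘ₗ h ∘ₗ p + (LinearMap.id - i ∘ₗ p) : (Fin n → R) →ₗ[R] (Fin n → R)) v x = v x + i (h (p v) - p v) x := by
      simp; ring
    rw [heq, map_add, Ideal.Quotient.eq_zero_iff_mem.mpr hvx, add_zero]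
    simp [v, Pi.single_apply, Matrix.one_apply]
  rw [Ideal.Quotient.eq_zero_iff_mem.mpr hmem] at h1
  exact zero_ne_one h1

theorem nonempty_linearEquiv (hR : LGRing.IsLGRing R)
    (hloc : ∀ m : Ideal R, m.IsMaximal → ∃ (φ : M →ₗ[R] N) (ψ : N →ₗ[R] M),
      (∀ x, ψ (φ x) - x ∈ m • (⊤ : Submodule R M)) ∧ ∀ y, φ (ψ y) - y ∈ m • (⊤ : Submodule R N)) :
    Nonempty (M ≃ₗ[R] N) := by
  obtain ⟨n, p, hp⟩ := Module.Finite.exists_fin' R M
  obtain ⟨i, hi⟩ := Module.projective_lifting_property p LinearMap.id hp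
  obtain ⟨n', p', hp'⟩ := Module.Finite.exists_fin' R N
  obtain ⟨i', hi'⟩ := Module.projective_lifting_property p' LinearMap.id hp'
  haveI : Module.Finite R (M →ₗ[R] N) := Module.Finite.of_surjective (LinearMap.lcomp R N i)
    fun h => ⟨h ∘ₗ p, LinearMap.ext fun x => congrArg h (LinearMap.congr_fun hi x)⟩
  haveI : Module.Finite R (N →ₗ[R] M) := Module.Finite.of_surjective (LinearMap.lcomp R M i')
    fun h => ⟨h ∘ₗ p', LinearMap.ext fun x => congrArg h (LinearMap.congr_fun hi' x)⟩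
  obtain ⟨a, f, hf⟩ := Module.Finite.exists_fin (R := R) (M := M →ₗ[R] N)
  obtain ⟨b, g, hg⟩ := Module.Finite.exists_fin (R := R) (M := N →ₗ[R] M)
  let P : MvPolynomial (Fin a ⊕ Fin b) R := detPoly M N i p f g *
    MvPolynomial.rename Sum.swap (detPoly N M i' p' g f)
  obtain ⟨s, hs⟩ := exists_unit_value' hR P fun m hm => by
    obtain ⟨φ, ψ, h1, h2⟩ := hloc m hm
    obtain ⟨cf, hcf⟩ := (Submodule.mem_span_range_iff_exists_fun R).mp
      (hf ▸ Submodule.mem_top : φ ∈ Submodule.span R (Set.range f))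
    obtain ⟨cg, hcg⟩ := (Submodule.mem_span_range_iff_exists_fun R).mp
      (hg ▸ Submodule.mem_top : ψ ∈ Submodule.span R (Set.range g))
    refine ⟨Sum.elim cf cg, ?_⟩
    rw [map_mul, MvPolynomial.eval_rename, eval_detPoly, eval_detPoly]
    simp only [Function.comp_apply, Sum.swap_inl, Sum.swap_inr, Sum.elim_inl, Sum.elim_inr, hcf, hcg]
    exact fun h => (hm.isPrime.mem_or_mem h).elim (det_notMem M i p (ψ ∘ₗ φ) m h1) (det_notMem N i' p' (φ ∘ₗ ψ) m h2)
  rw [map_mul, MvPolynomial.eval_rename, eval_detPoly, eval_detPoly, IsUnit.mul_iff] at hs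
  simp only [Function.comp_apply, Sum.swap_inl, Sum.swap_inr] at hs
  have b1 := bijective_of_isUnit_det M i p hi (_ ∘ₗ _) hs.1
  have b2 := bijective_of_isUnit_det N i' p' hi' (_ ∘ₗ _) hs.2
  exact ⟨LinearEquiv.ofBijective _ ⟨Function.Injective.of_comp b1.1, Function.Surjective.of_comp b2.2⟩⟩

omit [Module.Projective R M] [Module.Finite R N] [Module.Projective R N] in
lemma finrank_quotient_eq_rankAtStalk [Module.Projective R M] (m : Ideal R) [hm : m.IsMaximal] :
    Module.finrank (R ⧸ m) (M ⧸ m • (⊤ : Submodule R M)) =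
      Module.rankAtStalk M ⟨m, hm.isPrime⟩ := by
  letI := Ideal.Quotient.field m
  rw [Module.rankAtStalk_eq]
  let e : m.ResidueField ⊗[R ⧸ m] ((R ⧸ m) ⊗[R] M) ≃ₗ[m.ResidueField] m.Fiber M :=
    TensorProduct.AlgebraTensorModule.cancelBaseChange R (R ⧸ m) m.ResidueField m.ResidueField M
  rw [← e.finrank_eq, Module.finrank_baseChange]
  exact ((TensorProduct.quotTensorEquivQuotSMul M m).extendScalarsOfSurjective Ideal.Quotient.mk_surjective).finrank_eq.symm

theorem nonempty_linearEquiv_of_rankAtStalk (hR : LGRing.IsLGRing R)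
    (h : ∀ (m : Ideal R) (hm : m.IsMaximal),
      Module.rankAtStalk M ⟨m, hm.isPrime⟩ = Module.rankAtStalk N ⟨m, hm.isPrime⟩) :
    Nonempty (M ≃ₗ[R] N) := by
  refine nonempty_linearEquiv M N hR fun m hm => ?_
  letI := Ideal.Quotient.field m
  let e : (M ⧸ m • (⊤ : Submodule R M)) ≃ₗ[R ⧸ m] (N ⧸ m • (⊤ : Submodule R N)) :=
    LinearEquiv.ofFinrankEq _ _ (by rw [finrank_quotient_eq_rankAtStalk, finrank_quotient_eq_rankAtStalk, h m hm])
  obtain ⟨φ, hφ⟩ := Module.projective_lifting_property (m • (⊤ : Submodule R N)).mkQ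
    ((e.toLinearMap.restrictScalars R).comp (m • (⊤ : Submodule R M)).mkQ) (Submodule.mkQ_surjective _)
  obtain ⟨ψ, hψ⟩ := Module.projective_lifting_property (m • (⊤ : Submodule R M)).mkQ
    ((e.symm.toLinearMap.restrictScalars R).comp (m • (⊤ : Submodule R N)).mkQ) (Submodule.mkQ_surjective _)
  have hφ' : ∀ x, Submodule.Quotient.mk (φ x) = e (Submodule.Quotient.mk x) := LinearMap.congr_fun hφ
  have hψ' : ∀ y, Submodule.Quotient.mk (ψ y) = e.symm (Submodule.Quotient.mk y) := LinearMap.congr_fun hψ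
  exact ⟨φ, ψ, fun x => by rw [← Submodule.Quotient.eq, hψ', hφ', LinearEquiv.symm_apply_apply],
    fun y => by rw [← Submodule.Quotient.eq, hφ', hψ', LinearEquiv.apply_symm_apply]⟩

theorem free_of_rankAtStalk (hR : LGRing.IsLGRing R) (d : ℕ)
    (hd : ∀ p : PrimeSpectrum R, Module.rankAtStalk M p = d) : Module.Free R M := by
  have h : ∀ (m : Ideal R) (hm : m.IsMaximal),
      Module.rankAtStalk M ⟨m, hm.isPrime⟩ = Module.rankAtStalk (Fin d → R) ⟨m, hm.isPrime⟩ := fun m hm => by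
    haveI : Nontrivial R := ⟨⟨0, 1, fun h => hm.ne_top ((Ideal.eq_top_iff_one _).mpr (h ▸ m.zero_mem))⟩⟩
    rw [hd, Module.rankAtStalk_eq_finrank_of_free]
    simp
  obtain ⟨e⟩ := nonempty_linearEquiv_of_rankAtStalk M (Fin d → R) hR h
  exact Module.Free.of_equiv e.symm

theorem cancel (hR : LGRing.IsLGRing R) {k : ℕ} (hk : 0 < k) (e : (Fin k → M) ≃ₗ[R] (Fin k → N)) :
    Nonempty (M ≃ₗ[R] N) := by
  refine nonempty_linearEquiv_of_rankAtStalk M N hR fun m hm => ?_
  have := congrFun (Module.rankAtStalk_eq_of_equiv e) ⟨m, hm.isPrime⟩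
  rw [Module.rankAtStalk_pi, Module.rankAtStalk_pi] at this
  simp only [finsum_eq_sum_of_fintype, Finset.sum_const, Pi.smul_apply, smul_eq_mul,
    Finset.card_univ, Fintype.card_fin] at this
  exact Nat.eq_of_mul_eq_mul_left hk this

end Groth.Agent.LGRingLib
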