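import Groth.Agent.LGRingLib.Basic

universe u v

open AlgebraicGeometry TensorProduct

namespace Groth.Agent.LGRingLib

variable {R : Type u} [CommRing R]

theorem nonempty_linearEquiv_of_tensor (hR : LGRing.IsLGRing R) (M₁ M₂ N : Type v) [AddCommGroup M₁]
    [Module R M₁] [Module.Finite R M₁] [Module.Projective R M₁] [AddCommGroup M₂] [Module R M₂]
    [Module.Finite R M₂] [Module.Projective R M₂] [AddCommGroup N] [Module R N] [Module.Finite R N]
    [Module.Projective R N] [FaithfulSMul R N] (e : M₁ ⊗[R] N ≃ₗ[R] M₂ ⊗[R] N) :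
    Nonempty (M₁ ≃ₗ[R] M₂) := by
  refine nonempty_linearEquiv_of_rankAtStalk M₁ M₂ hR fun m hm => ?_
  have h := congrFun (Module.rankAtStalk_eq_of_equiv e) ⟨m, hm.isPrime⟩
  rw [Module.rankAtStalk_tensorProduct, Module.rankAtStalk_tensorProduct, Pi.mul_apply, Pi.mul_apply] at h
  refine Nat.eq_of_mul_eq_mul_right ?_ h
  rw [Module.rankAtStalk_pos_iff_mem_support, Module.support_eq_zeroLocus,
    Module.annihilator_eq_bot.2 inferInstance, PrimeSpectrum.mem_zeroLocus]
  exact fun x hx => by rw [show x = 0 from hx]; exact zero_mem _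

/-- The image of a spectrum lies in a finite union of basic opens iff the values generate the unit ideal. -/
theorem range_subset_iff {A S : Type u} [CommRing A] [CommRing S] (g : Finset A) (φ : A →+* S)
    (U : (Spec (CommRingCat.of A)).Opens)
    (hU : (U : Set ↥(Spec (CommRingCat.of A))) = {q : PrimeSpectrum A | ∃ a ∈ g, a ∉ q.asIdeal}) :
    Set.range (Spec.map (CommRingCat.ofHom φ)).base ⊆ (U : Set ↥(Spec (CommRingCat.of A))) ↔
      Ideal.span (φ '' (g : Set A)) = ⊤ := by
  rw [hU]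
  constructor
  · intro h
    by_contra hne
    obtain ⟨m, hm, hle⟩ := Ideal.exists_le_maximal _ hne
    obtain ⟨a, ha, ha'⟩ := h ⟨(⟨m, hm.isPrime⟩ : PrimeSpectrum S), rfl⟩
    exact ha' (hle (Ideal.subset_span ⟨a, ha, rfl⟩))
  · rintro h _ ⟨q, rfl⟩
    have hqp : q.asIdeal ≠ ⊤ := (q.isPrime).ne_top
    by_contra hall
    refine hqp (top_le_iff.1 (h ▸ Ideal.span_le.2 ?_))
    rintro _ ⟨a, ha, rfl⟩
    by_contra haq
    exact hall ⟨a, ha, haq⟩

theorem exists_finset {A : Type u} [CommRing A] (U : (Spec (CommRingCat.of A)).Opens)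
    (hU : IsCompact (U : Set ↥(Spec (CommRingCat.of A)))) :
    ∃ g : Finset A, (U : Set ↥(Spec (CommRingCat.of A))) = {q : PrimeSpectrum A | ∃ a ∈ g, a ∉ q.asIdeal} := by
  obtain ⟨s, hs⟩ := (PrimeSpectrum.isCompact_isOpen_iff (R := A)).1 ⟨hU, U.2⟩
  refine ⟨s, ?_⟩
  rw [← hs]
  ext q
  simp [PrimeSpectrum.mem_zeroLocus, Set.not_subset]

/-- The engine: polynomials with no common zero modulo every maximal ideal generate the unit ideal at
some point. -/
theorem exists_values (hR : LGRing.IsLGRing R) {σ : Type} [Finite σ] {ι : Type u} (g : Finset ι)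
    (P : ι → MvPolynomial σ R)
    (h : ∀ m : Ideal R, m.IsMaximal → ∃ (x : σ → R), ∃ i ∈ g, MvPolynomial.eval x (P i) ∉ m) :
    ∃ x : σ → R, Ideal.span ((fun i => MvPolynomial.eval x (P i)) '' (g : Set ι)) = ⊤ := by
  classical
  let Q : MvPolynomial (σ ⊕ Fin g.card) R := ∑ j : Fin g.card,
    MvPolynomial.X (Sum.inr j) * MvPolynomial.rename Sum.inl (P (g.equivFin.symm j))
  have hQ : ∀ s, MvPolynomial.eval s Q =
      ∑ j : Fin g.card, s (Sum.inr j) * MvPolynomial.eval (s ∘ Sum.inl) (P (g.equivFin.symm j)) := fun s => by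
    simp [Q, MvPolynomial.eval_rename]
  obtain ⟨s, hs⟩ := exists_unit_value' hR Q fun m hm => by
    obtain ⟨x, i, hi, hxi⟩ := h m hm
    refine ⟨Sum.elim x (Pi.single (g.equivFin ⟨i, hi⟩) 1), ?_⟩
    rw [hQ]
    simpa [Pi.single_apply] using hxi
  refine ⟨s ∘ Sum.inl, Ideal.eq_top_of_isUnit_mem _ ?_ hs⟩
  rw [hQ]
  exact Ideal.sum_mem _ fun j _ => Ideal.mul_mem_left _ _ (Ideal.subset_span ⟨_, (g.equivFin.symm j).2, rfl⟩)

theorem exists_point_affine (hR : LGRing.IsLGRing R) (n : ℕ)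
    (U : (Spec (CommRingCat.of (MvPolynomial (Fin n) R))).Opens)
    (hU : IsCompact (U : Set ↥(Spec (CommRingCat.of (MvPolynomial (Fin n) R)))))
    (h : ∀ (m : Ideal R) [m.IsMaximal], ∃ x : Fin n → R ⧸ m,
      Set.range (Spec.map (CommRingCat.ofHom (MvPolynomial.eval₂Hom (Ideal.Quotient.mk m) x))).base ⊆
        (U : Set ↥(Spec (CommRingCat.of (MvPolynomial (Fin n) R))))) :
    ∃ x : Fin n → R, Set.range (Spec.map (CommRingCat.ofHom (MvPolynomial.eval x))).base ⊆
      (U : Set ↥(Spec (CommRingCat.of (MvPolynomial (Fin n) R)))) := by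
  obtain ⟨g, hg⟩ := exists_finset U hU
  obtain ⟨x, hx⟩ := exists_values hR g (fun a => a) fun m hm => by
    obtain ⟨x, hx⟩ := h m
    rw [range_subset_iff g _ U hg] at hx
    choose y hy using fun i => Ideal.Quotient.mk_surjective (x i)
    refine ⟨y, ?_⟩
    by_contra! hall
    have : Nontrivial (R ⧸ m) := Ideal.Quotient.nontrivial_iff.2 hm.ne_top
    refine bot_ne_top ((eq_bot_iff.2 (Ideal.span_le.2 ?_)).symm.trans hx)
    rintro _ ⟨a, ha, rfl⟩
    have e : x = Ideal.Quotient.mk m ∘ y := (funext hy).symm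
    subst e
    rw [SetLike.mem_coe, Ideal.mem_bot, MvPolynomial.coe_eval₂Hom, ← MvPolynomial.eval₂_comp]
    exact Ideal.Quotient.eq_zero_iff_mem.2 (hall a ha)
  exact ⟨x, (range_subset_iff g _ U hg).2 hx⟩

section Bundle

variable (M : Type u) [AddCommGroup M] [Module R M] [Module.Finite R M] [Module.Projective R M]

local notation "D" => Module.Dual R M

local notation "W" => SymmetricAlgebra R (Module.Dual R M)

/-- Coordinates on the dual module: every point of the bundle is the pullback of a point of affine space. -/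
theorem exists_coords : ∃ (n : ℕ) (Φ : W →ₐ[R] MvPolynomial (Fin n) R) (Ψ : MvPolynomial (Fin n) R →ₐ[R] W),
    ∀ a, Ψ (Φ a) = a := by
  obtain ⟨n, p, s, -, -, hps⟩ := Module.Finite.exists_comp_eq_id_of_projective R D
  refine ⟨n, SymmetricAlgebra.lift ((Fintype.linearCombination R (MvPolynomial.X (R := R) (σ := Fin n))).comp s),
    MvPolynomial.aeval (fun i => SymmetricAlgebra.ι R D (p (Pi.single i 1))), fun a => ?_⟩
  rw [← AlgHom.comp_apply]
  refine AlgHom.congr_fun (φ₂ := AlgHom.id R W) ?_ a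
  refine SymmetricAlgebra.algHom_ext (LinearMap.ext fun d => ?_)
  have e : d = ∑ i, s d i • p (Pi.single i 1) := by
    conv_lhs => rw [← LinearMap.id_apply (R := R) d, ← hps, LinearMap.comp_apply, pi_eq_sum_univ' (s d), map_sum]
    exact Finset.sum_congr rfl fun i _ => map_smul p _ _
  conv_rhs => rw [e]
  simp [Fintype.linearCombination_apply, map_sum, map_smul]

theorem exists_point_bundle (hR : LGRing.IsLGRing R) (g : Finset W)
    (h : ∀ m : Ideal R, m.IsMaximal → ∃ φ : W →+* R ⧸ m,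
      (∀ r, φ (algebraMap R W r) = Ideal.Quotient.mk m r) ∧ ∃ a ∈ g, φ a ≠ 0) :
    ∃ φ : D →ₗ[R] R, Ideal.span ((SymmetricAlgebra.lift φ).toRingHom '' (g : Set W)) = ⊤ := by
  obtain ⟨n, Φ, Ψ, hΨ⟩ := exists_coords (R := R) M
  obtain ⟨x, hx⟩ := exists_values hR g (fun a => Φ a) fun m hm => by
    obtain ⟨φ, hφ, a, ha, hne⟩ := h m hm
    choose y hy using fun i => Ideal.Quotient.mk_surjective (φ (Ψ (MvPolynomial.X i)))
    refine ⟨y, a, ha, fun hmem => hne ?_⟩
    have key : φ.comp Ψ.toRingHom = (Ideal.Quotient.mk m).comp (MvPolynomial.eval y) := by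
      refine MvPolynomial.ringHom_ext (fun r => ?_) (fun i => by simp [hy])
      simpa using hφ r
    rw [← hΨ a]
    exact (RingHom.congr_fun key (Φ a)).trans (Ideal.Quotient.eq_zero_iff_mem.2 hmem)
  refine ⟨SymmetricAlgebra.lift.symm ((MvPolynomial.aeval x).comp Φ), ?_⟩
  rw [Equiv.apply_symm_apply]
  simpa [MvPolynomial.aeval_eq_eval] using hx

theorem bundle_iff (hR : LGRing.IsLGRing R) (U : (Spec (CommRingCat.of W)).Opens)
    (hU : IsCompact (U : Set ↥(Spec (CommRingCat.of W)))) :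
    (∃ φ : D →ₗ[R] R, Set.range (Spec.map (CommRingCat.ofHom (SymmetricAlgebra.lift φ).toRingHom)).base ⊆
        (U : Set ↥(Spec (CommRingCat.of W)))) ↔
    ∀ (m : Ideal R) [m.IsMaximal], ∃ φ : D →ₗ[R] (R ⧸ m),
      Set.range (Spec.map (CommRingCat.ofHom (SymmetricAlgebra.lift φ).toRingHom)).base ⊆
        (U : Set ↥(Spec (CommRingCat.of W))) := by
  obtain ⟨g, hg⟩ := exists_finset U hU
  simp only [range_subset_iff g _ U hg]
  constructor
  · rintro ⟨φ, hφ⟩ m hm
    refine ⟨(Ideal.Quotient.mkₐ R m).toLinearMap.comp φ, ?_⟩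
    have e : SymmetricAlgebra.lift ((Ideal.Quotient.mkₐ R m).toLinearMap.comp φ) =
        (Ideal.Quotient.mkₐ R m).comp (SymmetricAlgebra.lift φ) :=
      SymmetricAlgebra.algHom_ext (LinearMap.ext fun d => by simp)
    rw [e]
    have := congrArg (Ideal.map (Ideal.Quotient.mk m)) hφ
    rw [Ideal.map_span, Ideal.map_top, Set.image_image] at this
    exact this
  · intro h
    refine exists_point_bundle M hR g fun m hm => ?_
    obtain ⟨φ, hφ⟩ := h m
    refine ⟨(SymmetricAlgebra.lift φ).toRingHom, fun r => ?_, ?_⟩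
    · exact (SymmetricAlgebra.lift φ).commutes r
    · by_contra! hall
      have : Nontrivial (R ⧸ m) := Ideal.Quotient.nontrivial_iff.2 hm.ne_top
      refine bot_ne_top ((eq_bot_iff.2 (Ideal.span_le.2 ?_)).symm.trans hφ)
      rintro _ ⟨a, ha, rfl⟩
      exact hall a ha

theorem exists_point_dense (hR : LGRing.IsLGRing R) (hinf : ∀ (m : Ideal R) [m.IsMaximal], Infinite (R ⧸ m))
    (U : (Spec (CommRingCat.of W)).Opens) (hU : IsCompact (U : Set ↥(Spec (CommRingCat.of W))))
    (hdense : ∀ (m : Ideal R) [m.IsMaximal],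
      Dense ((Spec.map (CommRingCat.ofHom (Ideal.Quotient.mk
        (Ideal.map (algebraMap R W) m)))).base ⁻¹' (U : Set ↥(Spec (CommRingCat.of W))))) :
    ∃ φ : D →ₗ[R] R, Set.range (Spec.map (CommRingCat.ofHom (SymmetricAlgebra.lift φ).toRingHom)).base ⊆
        (U : Set ↥(Spec (CommRingCat.of W))) := by
  obtain ⟨g, hg⟩ := exists_finset U hU
  simp only [range_subset_iff g _ U hg]
  refine exists_point_bundle M hR g fun m hm => ?_
  letI := Ideal.Quotient.field m
  have := hinf m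
  -- a rational point of the closed fibre: the zero linear form
  let z : W →ₐ[R] R ⧸ m := SymmetricAlgebra.lift 0
  have hz : ∀ a ∈ Ideal.map (algebraMap R W) m, z a = 0 := by
    refine fun a ha => RingHom.mem_ker.1 (Ideal.map_le_iff_le_comap.2 (fun r hr => ?_) ha : a ∈ RingHom.ker z)
    simpa [RingHom.mem_ker] using Ideal.Quotient.eq_zero_iff_mem.2 hr
  have : Nontrivial (W ⧸ Ideal.map (algebraMap R W) m) := Ideal.Quotient.nontrivial_iff.2 fun htop => by
    simpa using hz 1 (htop ▸ trivial)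
  obtain ⟨q, hq⟩ := (hdense m).nonempty
  have hq' : ∃ a ∈ g, a ∉ ((q : PrimeSpectrum (W ⧸ Ideal.map (algebraMap R W) m)).asIdeal.comap
      (Ideal.Quotient.mk _)) := by
    rw [hg] at hq
    exact hq
  obtain ⟨a, ha, haq⟩ := hq'
  obtain ⟨n, Φ, Ψ, hΨ⟩ := exists_coords (R := R) M
  have hne : MvPolynomial.map (Ideal.Quotient.mk m) (Φ a) ≠ 0 := fun h0 => haq (by
    rw [Ideal.mem_comap, ← hΨ a]
    have hmem : Φ a ∈ Ideal.map MvPolynomial.C m := by
      rw [MvPolynomial.mem_map_C_iff]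
      intro d
      rw [← Ideal.Quotient.eq_zero_iff_mem, ← MvPolynomial.coeff_map, h0, MvPolynomial.coeff_zero]
    have : Ψ (Φ a) ∈ Ideal.map (algebraMap R W) m := by
      have := Ideal.mem_map_of_mem Ψ.toRingHom hmem
      rw [Ideal.map_map] at this
      rw [show Ψ.toRingHom.comp MvPolynomial.C = algebraMap R W from RingHom.ext fun r => Ψ.commutes r] at this
      exact this
    rw [Ideal.Quotient.eq_zero_iff_mem.2 this]
    exact zero_mem _)
  obtain ⟨x, hx⟩ : ∃ x, MvPolynomial.eval x (MvPolynomial.map (Ideal.Quotient.mk m) (Φ a)) ≠ 0 := by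
    by_contra! hall
    exact hne (MvPolynomial.funext fun x => by simp [hall x])
  refine ⟨((MvPolynomial.eval x).comp (MvPolynomial.map (Ideal.Quotient.mk m))).comp Φ.toRingHom, fun r => ?_,
    a, ha, hx⟩
  simp

end Bundle

end Groth.Agent.LGRingLib
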